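/-
Overgroups of the normaliser of `r^{1+2}` without transvections, over any field: odd characteristic.
-/
import Cfsg.Agent.X7.E2

set_option autoImplicit false
set_option linter.unusedSectionVars false

namespace CF.UsC

open Matrix Cfsg Cfsg.Geo CF.MaxSub Subgroup Equiv CF.X7 CF.D5 CF.BG
open scoped MatrixGroups commutatorElement

variable {F : Type*} [Field F] [Fintype F] {r : ℕ} [Fact r.Prime] {w : Fˣ} {c : F} {φ : GL (ZMod r) F}
  {H : Subgroup (GL (ZMod r) F)}

/-- An overgroup of the normaliser without transvections. -/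
structure Hc (w : Fˣ) (c : F) (φ : GL (ZMod r) F) (H : Subgroup (GL (ZMod r) F)) : Prop extends Hw w c φ H where
  cc : c * c * r = -1
  nt : NT H

/-- An overgroup without transvections and reflections, odd characteristic. -/
structure Hu (w : Fˣ) (c : F) (φ : GL (ZMod r) F) (H : Subgroup (GL (ZMod r) F)) : Prop extends Hc w c φ H where
  h2 : (2 : F) ≠ 0
  nr : ¬ Rt (pm H) (Pi.single 0 1) (Pi.single 0 2)

namespace Hc

variable (h : Hc w c φ H)
include h

theorem t : tt r F ∈ H := h.hh_neg ▸ h.hm _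

theorem c0 : c ≠ 0 := fun e => by simpa [e] using h.cc

theorem ff : φ * φ = tt r F := Units.ext (by
  rw [Units.val_mul, h.fv, smul_mul_smul_comm, h.FF_mul, smul_smul, mul_neg, h.cc, neg_neg, one_smul])

theorem fi : φ⁻¹.val = -c • of fun i j => (wp w (-(i * j)) : F) := by
  rw [show φ⁻¹ = φ * tt r F by rw [← h.ff, ← mul_assoc, inv_eq_iff_mul_eq_one, ← mul_assoc, ← mul_assoc, h.ff, mul_assoc,
    h.ff, tt_mul]]
  ext i j
  simp [tt, mul_mon, h.fv, FF]

theorem sa (a : ZMod r) : mon 1 (fun x => wp w (a * (x * x))) ∈ H := by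
  convert pow_mem h.s a.val
  rw [show ss r w = dg fun l => wp w (l * l) from rfl, ← map_pow]
  exact congrArg (mon 1) (funext fun l => by simp [h.wp_pow])

theorem tJ : tt r F ∈ JJ H :=
  ⟨h.t, rfl, 1, by rw [mul_add, ← Units.val_mul, tt_mul]; simp [add_comm]⟩

end Hc

theorem Hc.gen_refl (h : Hc w c φ H) (h2 : (2 : F) ≠ 0) (h7 : r = 7 → (3 : F) ≠ 0 ∧ (5 : F) ≠ 0)
    (h11 : r = 11 → (7 : F) ≠ 0) : ¬ Rt (pm H) (Pi.single 0 1) (Pi.single 0 2) := fun r0 => by
  have A := h.nt.ax h.sl (by simpa using h.odd) h2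
  have m : ∀ {g}, g ∈ H → g.val ∈ pm H := fun a => ⟨_, a, .inl rfl⟩
  obtain ⟨ν, hν⟩ : ∃ ν, ν = -(2 * c * c) := ⟨_, rfl⟩
  have νr : ν * r = 2 := by linear_combination r * hν - 2 * h.cc
  have ν0 : ν ≠ 0 := fun e => h2 (by rw [← νr, e, zero_mul])
  have rv : ∀ a, Rt (pm H) (vv w a) (ν • vv w (-a)) := fun a =>
    (((r0.conj (m h.f) (m (inv_mem h.f)) φ.mul_inv).smul (inv_mul_cancel₀ h.c0)).conj (m (h.sa a))
      (m (inv_mem (h.sa a))) (Units.mul_inv _)).of_eq (funext fun x => by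
        simp [coe_mon_one, mulVec_diagonal, h.fv, FF, wp_zero, h.c0, vv]) (funext fun x => by
        simp [mon_inv, coe_mon_one, vecMul_diagonal, h.fi, wp_zero, vv, hν, h.wp_neg]; ring)
  obtain ⟨g, hg⟩ : ∃ g, g = gs w (1 : ZMod r) := ⟨_, rfl⟩
  have gg : g * g = -r := hg ▸ h.gs_mul
  have g' : gs w (-1 : ZMod r) = -g := hg ▸ h.gs_neg
  have g0 : g ≠ 0 := fun e => h.rne (by simpa [e] using gg)
  have h4 : (4 : F) ≠ 0 := by rw [show (4 : F) = 2 * 2 by norm_num]; simp [h2]
  have n : (r : F) - 3 ≠ 0 ∧ (r : F) ≠ 4 ∧ ((r : F) = 2 → g * g = 4) ∧ ((3 : F) ≠ 0 → 3 * (r : F) - 1 ≠ 0 ∧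
      2 * (3 * (r : F) - 1) ≠ r * (r - 3) ∧ 3 * (r : F) - 1 ≠ r * (r - 3)) := by
    rcases h.hr with e | e
    · obtain ⟨h3, h5⟩ := h7 e
      rw [e]
      push_cast
      exact ⟨fun e => h4 (by linear_combination e), fun e => h3 (by linear_combination e),
        fun e => (h5 (by linear_combination e)).elim, fun _ => ⟨fun e => mul_ne_zero h4 h5 (by linear_combination e),
          fun e => mul_ne_zero h4 h3 (by linear_combination e), fun e => mul_ne_zero h4 h2 (by linear_combination -e)⟩⟩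
    · have h7 := h11 e
      have h8 := mul_ne_zero h4 h2
      rw [e] at gg ⊢
      push_cast at gg ⊢
      exact ⟨fun e => h8 (by linear_combination e), fun e => h7 (by linear_combination e), fun e => by
        linear_combination gg - 5 * (mul_self_eq_zero (a := (3 : F))).1 (by linear_combination e),
        fun h3 => ⟨fun e => mul_ne_zero h8 h4 (by linear_combination e),
          fun e => mul_ne_zero h8 h3 (by linear_combination -e), fun e => mul_ne_zero h8 h7 (by linear_combination -e)⟩⟩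
  by_cases r2 : (r : F) = 2
  · have k := r0.act (rv 1)
    have a : (ν • vv w (-0)) ⬝ᵥ (vv w 1 - (Pi.single 0 2 ⬝ᵥ vv w (1 : ZMod r)) • Pi.single (0 : ZMod r) 1) =
        ν * (g - 2) := by
      simp [h.vv_dot, vv_zero, ← hg]; ring
    have b : (ν • vv w (-1) - ((ν • vv w (-1 : ZMod r)) ⬝ᵥ Pi.single 0 1) • Pi.single 0 2) ⬝ᵥ vv w (0 : ZMod r) =
        -ν * (g + 2) := by
      simp [h.vv_dot, vv_zero, g']; ring
    have a' := a ▸ b ▸ A.sym (rv 0) k
    have b' := a ▸ b ▸ A.sym k (rv 0)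
    have : ν * (g - 2) = 0 ∧ -ν * (g + 2) = 0 := (mul_eq_zero.1 (show (g - 2) * (g + 2) = 0 by
      linear_combination n.2.2.1 r2)).elim (fun e => by simpa [e] using a') fun e => by simpa [e] using b'
    exact mul_ne_zero ν0 h4 (by linear_combination -this.1 - this.2)
  have rne := h.rne
  obtain ⟨h3, k⟩ := three_roots A h2 (x := ![Pi.single 0 1, vv w 0, vv w 1])
    (ξ := ![Pi.single 0 2, ν • vv w (-0), ν • vv w (-1)]) ⟨fun i => by fin_cases i; exacts [r0, rv 0, rv 1], by
      simp [h.vv_dot, vv_zero, g', ← hg]; grind⟩ (by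
      simp [det_fin_three, h.vv_dot, vv_zero, g', ← hg, gs_zero]; grind) fun i j e => by
      fin_cases i <;> fin_cases j <;> simp [h.vv_dot, vv_zero, g', ← hg] at e ⊢ <;> grind
  obtain ⟨a, b, a0, b0, e⟩ : ∃ a b : ZMod r, a ≠ 0 ∧ b ≠ 0 ∧ a * a = b * b + 1 := by
    rcases h.hr with rfl | rfl <;> cases Subsingleton.elim ‹Fact (Nat.Prime _)› ⟨by norm_num⟩ <;> decide
  have e1 : gs w (a * a) = g := by rw [hg, ← Om.gs_sq (a := 1) a0, mul_one]
  have e2 : gs w (-1 + a * a) = g := by rw [hg, ← Om.gs_sq (a := 1) b0, e]; congr 1; ring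
  have e3 : gs w (-(a * a)) = -g := by rw [← g', ← Om.gs_sq (a := -1) a0]; congr 1; ring
  have e4 : gs w (-(a * a) + 1) = -g := by rw [← g', ← Om.gs_sq (a := -1) b0, e]; congr 1; ring
  obtain ⟨κ, hκ⟩ : ∃ κ, κ * (r * (r - 3)) = g - 1 := ⟨_, div_mul_cancel₀ _ (mul_ne_zero rne n.1)⟩
  have := k _ _ (rv (a * a)) ![1 - 2 * r * κ, (r - g) * κ, (r + g) * κ] fun i => by
    fin_cases i <;> simp [Fin.sum_univ_three, h.vv_dot, vv_zero, g', ← hg, gs_zero, e1, e2] <;>
      first | linear_combination ν * hκ + ν * κ * gg | ring1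
  simp [Fin.sum_univ_three, h.vv_dot, vv_zero, e3, e4] at this
  obtain ⟨n1, n2, n3⟩ := n.2.2.2 h3
  have k : (ν * (1 - 2 * r * κ) + -(ν * g * ((r - g) * κ)) + -(ν * g * ((r + g) * κ))) * (r * (r - 3)) =
      2 * (3 * r - 1) := by
    linear_combination -2 * r * ν * (1 + g) * hκ + (r - 3 - 2 * (g * g - 1)) * νr - 4 * gg
  rcases this with e | e | e <;> rw [e] at k
  exacts [mul_ne_zero h2 n1 (by linear_combination -k), n2 (by linear_combination -k),
    n3 (mul_left_cancel₀ h2 k.symm)]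

theorem Hu.b1 (h : Hu w c φ H) {d : ZMod r → Fˣ} (a : mon 1 d ∈ H) (b : ∀ x, d x * d x = 1) : mon 1 d = 1 := by
  by_contra n
  obtain ⟨j, hj⟩ : ∃ j, d j ≠ 1 := not_forall.1 fun e => n (funext e ▸ mon_one)
  have a' : mon 1 (fun x => d (x + j)) ∈ H := by
    have := mul_mem (mul_mem (h.E 0 0 (-j)) a) (inv_mem (h.E 0 0 (-j)))
    rw [EE, mon_conj] at this
    simpa using this
  have dj : d j = -1 := Units.ext ((mul_self_eq_one_iff.1 (congrArg Units.val (b j))).resolve_left
    (by simpa using hj))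
  replace dj : (fun x => d (x + j)) 0 = -1 := by simpa
  replace b : ∀ x, (fun x => d (x + j)) x * (fun x => d (x + j)) x = 1 := fun _ => b _
  generalize (fun x => d (x + j)) = d at *
  have p : ∏ x, d x = 1 := by simpa using mon_sl.1 (h.sl a')
  have k : (∏ u : (ZMod r)ˣ, fun x => d (u * x)) ∈ H.comap dg := prod_mem fun u _ => by
    have := mul_mem (mul_mem (h.hm u⁻¹) a') (inv_mem (h.hm u⁻¹))
    rw [hh, mon_conj] at this
    simpa [dg] using this
  refine h.nr ⟨by simp, by simp, by simp [h.h2], _, k, .inr ?_⟩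
  ext x y
  have : (∏ u : (ZMod r)ˣ, fun x => d (u * x)) y = if y = 0 then 1 else -1 := by
    split_ifs with e
    · simp [e, dj, Nat.totient_prime (Fact.out : r.Prime), (h.odd.tsub_odd odd_one).neg_one_pow]
    · have := Finset.mul_prod_erase _ d (Finset.mem_univ 0)
      rw [p, dj, neg_one_mul, neg_eq_iff_eq_neg] at this
      rw [← this, Finset.prod_apply]
      exact Finset.prod_bij (fun u _ => u * y) (by simp [e]) (by simp [e, Units.ext_iff])
        (fun z hz => ⟨.mk0 (z / y) (by simpa [e] using hz), by simp [e]⟩) fun _ _ => rfl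
  simp only [dg, MonoidHom.coe_mk, OneHom.coe_mk, Matrix.neg_apply, mon_apply, this]
  by_cases e : x = y <;> by_cases k : y = 0 <;> simp_all [vecMulVec_apply]; norm_num

namespace Hu
variable (h : Hu w c φ H)
include h

theorem b2 {k : ℕ} {d : ZMod r → Fˣ} (a : mon 1 d ∈ H) (b : mon 1 d ^ 2 ^ k = 1) : mon 1 d = 1 := by
  induction k generalizing d with
  | zero => simpa using b
  | succ k ih =>
    rw [pow_succ', pow_mul, _root_.sq, mon_mul, one_mul] at b
    exact h.b1 a (congrFun (mon_inj ((ih (by simpa [mon_mul] using mul_mem a a) b).trans mon_one.symm)).2)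

theorem blk {g : GL (ZMod r) F} (a : g ∈ H) (e : g * ss r w = ss r w * g) {x : ZMod r} (x0 : x ≠ 0) :
    g.val x (-x) = 0 ∧ g.val (-x) x = 0 ∨ g.val x x = 0 ∧ g.val (-x) (-x) = 0 := by
  let Γ := H.subgroupOf (𝐂₁ (ss r w))
  have o : Odd (Nat.card ↥⁅Γ, Γ⁆) := by
    refine Nat.not_even_iff_odd.1 fun k => ?_
    obtain ⟨y, hy, o⟩ := exists_mem_orderOf_eq Nat.prime_two k.two_dvd
    have y2 : y * y = 1 := by rw [← _root_.sq, ← o, pow_orderOf_eq_one]
    obtain ⟨d, e⟩ := exists_diag (g := y.1) fun i j n => by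
      by_cases k : i = -j
      swap
      · exact h.cs (mem_cent1.1 y.2) n k
      obtain rfl : j = -i := by simp [k]
      obtain ⟨β, b⟩ := h.exists_blk (x := i) fun e => n (by simp [e])
      have a1 := congrArg Units.val (show GeneralLinearGroup.det (β y) = 1 from
        commutator_le.2 (fun a _ b _ => show ⁅a, b⁆ ∈ (GeneralLinearGroup.det.comp β).ker by
          rw [MonoidHom.mem_ker, map_commutatorElement, commutatorElement_eq_one_iff_mul_comm, mul_comm]) hy)
      have a2 := congrArg Units.val ((map_mul β y y).symm.trans ((congrArg β y2).trans (map_one β)))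
      simp [b, det_fin_two, one_fin_two] at a1 a2
      have := h.h2
      grind
    replace y2 : y.1 * y.1 = 1 := congrArg Subtype.val y2
    have := h.b1 (e ▸ show y.1 ∈ H from der_le Γ hy) (congrFun (mon_inj (mon_mul.symm.trans
      ((e ▸ y2).trans mon_one.symm))).2)
    simp [show y = 1 from Subtype.ext (e.trans this)] at o
  obtain ⟨β, b⟩ := h.exists_blk x0
  have n := h.ne_neg x0
  simpa [b] using two_mono (X := Γ.map β) (by rw [← map_commutator]; exact o.of_dvd_nat (card_map_dvd ..))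
    (d := β ⟨EE w 0 1 0, mem_cent1.2 (by simp [EE_diag, ss, mon_mul, mul_comm])⟩)
    (σ := β ⟨tt r F, mem_cent1.2 (by simp [tt, ss, mon_mul])⟩) (mem_map_of_mem _ (h.E ..)) (mem_map_of_mem _ h.t)
    (ω := wp w x) (ω' := wp w (-x)) (by simp [b, EE_diag, mon_apply, n, n.symm]) (by simp [b, tt_apply, n, n.symm])
    (fun e => mul_ne_zero (mul_ne_zero h.two h.two) x0 (by
      rw [← Units.val_mul, ← Units.val_mul, ← h.wp_add, ← h.wp_add] at e
      linear_combination h.wp_inj (Units.ext e))) (mem_map_of_mem _ (show ⟨g, mem_cent1.2 e⟩ ∈ Γ from a))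

theorem pe {g : GL (ZMod r) F} (a : g ∈ H) (t : g * tt r F = tt r F * g) {b : F}
    (k : g.val * (1 + (tt r F).val) = b • (1 + (tt r F).val)) (e : g * ss r w = ss r w * g) : ∃ ε, PE g ε b := by
  classical
  have t1 : ∀ i j, g.val (-i) j = g.val i (-j) := fun i j => by
    have := congrFun₂ (congrArg Units.val t :) (-i) (-j)
    rw [Units.val_mul, Units.val_mul, tt, mul_mon, show -i = Equiv.neg _ i from rfl, mon_mul_apply] at this
    simpa using this
  have t2 : ∀ j, j ≠ 0 → g.val j j - g.val j (-j) = b := fun j n => by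
    have := congrFun₂ k j j
    simpa [mul_add, tt, mul_mon, mon_apply, h.ne_neg n, sub_eq_add_neg] using this
  let ε : ZMod r → ℤˣ := fun x => if g.val x x = 0 then -1 else 1
  have ev : ∀ x, ε (-x) = ε x := fun x => by simp [ε, t1]
  have z : ∀ i j, i ≠ ε j • j → g.val i j = 0 := fun i j n => by
    by_cases a : i = j
    · subst a; by_contra e; simp [ε, e] at n
    by_cases b : i = -j
    swap
    · exact h.cs e a b
    subst b
    have := h.blk ‹_› e (x := j) fun e => a (by simp [e])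
    by_cases c : g.val j j = 0 <;> simp_all [ε]
  have nz : ∀ j, g.val (ε j • j) j ≠ 0 := fun j e => g.det_ne_zero (det_eq_zero_of_column_eq_zero j fun i =>
    (em (i = ε j • j)).elim (· ▸ e) (z i j))
  have iv : Function.Involutive fun x : ZMod r => ε x • x := fun x => by
    rcases Int.units_eq_one_or (ε x) with k | k <;> simp [k, ev]
  refine ⟨ε, ev, iv.toPerm, fun j => .mk0 _ (nz j), Units.ext (Matrix.ext fun i j => ?_), fun _ => rfl, fun x n => ?_⟩
  · by_cases e : i = ε j • j <;> simp [mon_apply, e, z]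
  · have := t2 x n
    have := z (-x) x
    have := h.ne_neg n
    have := t1 x x
    by_cases c : g.val x x = 0 <;> simp [ε, c] at * <;> grind

theorem no_swap {u : GL (ZMod r) F} {ε : ZMod r → ℤˣ} (a : u ∈ H) (p : PE u ε 1)
    (e : ∀ x, x ≠ 0 → ε x = if x = 1 ∨ x = -1 then -1 else 1) : False := by
  have s := p.sq_one (h.sl a) (mul_one 1)
  obtain ⟨-, σ, d, rfl, b, k⟩ := p
  obtain rfl : σ = swap 1 (-1) := Equiv.ext fun x => by
    by_cases x0 : x = 0
    · rw [b, x0, smul_zero, swap_apply_of_ne_of_ne zero_ne_one (by simp)]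
    · rw [b, e x x0]; split_ifs with k
      · rcases k with rfl | rfl <;> simp
      · simp [swap_apply_of_ne_of_ne (not_or.1 k).1 (not_or.1 k).2]
  have k' : ∀ x, x ≠ 0 → d x = if x = 1 ∨ x = -1 then -1 else 1 := fun x n => Units.ext (by
    rw [k x n, e x n]; split_ifs <;> simp)
  have d2 : ∀ x, d x * d x = 1 := fun x => by
    by_cases n : x = 0
    · simpa [n, swap_apply_of_ne_of_ne] using congrFun (mon_inj (mon_mul.symm.trans (s.trans mon_one.symm))).2 0
    · rw [k' x n]; split_ifs <;> simp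
  have E : ∀ j : ZMod r, mon (Equiv.addRight j) (fun _ => 1) ∈ H := fun j => by simpa [EE, wp_zero] using h.E 0 0 j
  have c : ∀ {s c}, mon s (fun _ => c) ∈ H → mon (swap (s 1) (s (-1))) (fun j => d (s⁻¹ j)) ∈ H := fun k => by
    simpa only [mon_cj, swap_apply_apply] using mul_mem (mul_mem k a) (inv_mem k)
  have m := mul_mem (mul_mem (mul_mem a (c (E 2))) a) (c (by
    simpa only [hh, mon_mul] using mul_mem (E 1) (h.hm (.mk0 2 h.two))))
  obtain ⟨n0, n1, n2⟩ : (3 : ZMod r) ≠ 0 ∧ (3 : ZMod r) ≠ 1 ∧ (3 : ZMod r) ≠ -1 := by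
    rcases h.hr with rfl | rfl <;> cases Subsingleton.elim ‹Fact (Nat.Prime _)› ⟨by norm_num⟩ <;> decide
  simp only [mon_mul, Perm.mul_apply, Equiv.coe_addRight, Units.mulLeft_apply, Units.val_mk0] at m
  norm_num at m
  rw [swap_mul_swap_mul_swap n1 n2, Equiv.swap_comm, Equiv.swap_mul_self] at m
  have := congrFun (mon_inj ((h.b1 m fun x => by grind).trans mon_one.symm)).2 3
  norm_num [k' _ n0, n1, n2, k' 1, k' (-1), h.two] at this
  replace this : (-1 : F) = 1 := congrArg Units.val this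
  exact h.h2 (by linear_combination -this)

theorem j2 {u : GL (ZMod r) F} {k : ℕ} (a : u ∈ JJ H) (b : u ^ 2 ^ k = 1) : u = 1 ∨ u = tt r F := by
  have pr : r.Prime := Fact.out
  let s : GL (ZMod r) F := mon 1 fun l => wp w (1 + l * l)
  have e : s = EE w 1 0 0 * ss r w := by simp [s, ss, EE_diag, mon_mul, h.wp_add]
  have cs : ∀ {x}, x * s = s * x → x * ss r w = ss r w * x := fun {x} k => by
    rwa [e, EE_sc, ← mul_assoc, ← scalars_comm (scalarGL_mem _), mul_assoc, mul_assoc, mul_right_inj] at k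
  have sr : s ^ r = 1 := (map_pow dg _ r).symm.trans ((congrArg dg (funext fun _ => h.wp_r _)).trans (map_one _))
  have o : orderOf s = r := orderOf_eq_prime sr fun e => by
    simpa [h.wp_eq_one] using congrFun (mon_inj (e.trans mon_one.symm)).2 0
  have n : zpowers s ≤ 𝐍 (JK H (2 ^ k)) := le_norm_iff.2 fun g hg x => JK_conj
    (zpowers_le.2 (e ▸ mul_mem (h.E ..) h.s) hg)
    (mem_cent1.1 (zpowers_le.2 (mem_cent1.2 (by simp [s, tt, mon_mul])) hg))
  have nd := not_dvd_of_fix pr sr n fun x ⟨x1, x2, a, x3, x4⟩ e xr => by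
    obtain ⟨ε, p⟩ := h.pe x1 x2 x4 (cs e)
    have a1 := pow_gcd_eq_one.2 ⟨h.sc_pow x4 xr, x3⟩
    rw [((Nat.coprime_two_right.2 h.odd).pow_right k).gcd_eq_one, pow_one] at a1
    simpa [(Nat.coprime_two_right.2 h.odd).gcd_eq_one] using
      pow_gcd_eq_one.2 ⟨xr, (_root_.sq x).trans (p.sq_one (h.sl x1) (by simp [a1]))⟩
  obtain ⟨T, hT, nT⟩ := exists_syl_inv n (by rwa [Nat.card_zpowers, o, pr.coprime_iff_not_dvd])
    (.inl (cyc_zpowers _).sol) 2
  have cT := cent_of_fpf pr o nT hT.pi h.h2 (fun e => absurd (e ▸ h.odd) (by decide)) (fun j e => by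
    have : j < 4 := (Nat.pow_lt_pow_iff_right one_lt_two).1 (by have := h.hr; omega)
    have := h.hr
    interval_cases j <;> omega) fun v e => funext fun i => by
      have := congrFun e i
      rw [coe_mon_one, mulVec_diagonal] at this
      exact (mul_left_eq_self₀.1 this).resolve_left fun k => one_ne_zero
        (h.sq_add 1 i (by simpa [h.wp_eq_one] using k)).1
  obtain ⟨g, ⟨-, gt, -⟩, l⟩ := hT.syl_cj_le (zpowers_le.2 (let ⟨a1, a2, c, a3⟩ := a; ⟨a1, a2, c, h.sc_pow a3 b, a3⟩))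
    (piGrp_zpowers.2 ((piNat_pow_self Nat.prime_two k).dvd (orderOf_dvd_of_pow_eq_one b)))
  replace l := l (conj_mem_cj.2 (mem_zpowers u))
  suffices g * u * g⁻¹ = 1 ∨ g * u * g⁻¹ = tt r F from this.imp (by simp) fun e => by
    rwa [mul_inv_eq_iff_eq_mul, ← gt, mul_right_inj] at e
  replace b : (g * u * g⁻¹) ^ 2 ^ k = 1 := by rw [conj_pow, b]; simp
  generalize g * u * g⁻¹ = v at *
  obtain ⟨x1, x2, a, -, x4⟩ := hT.le l
  obtain ⟨ε, p⟩ := h.pe x1 x2 x4 (cs (mem_cent1.1 (cT l)))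
  have v2 : v * v = 1 := by
    obtain ⟨d, e, -⟩ := p.sq
    rw [e]
    exact h.b2 (k := k) (e ▸ mul_mem x1 x1) (by rw [← e, ← _root_.sq, ← pow_mul, pow_mul', b, one_pow])
  have dg : ∀ {v : GL (ZMod r) F} {ε a}, v ∈ H → PE v ε a → v * v = 1 → (∀ x, x ≠ 0 → ε x = 1) → v = 1 := fun m p v2 e => by
    obtain ⟨d, rfl, -⟩ := p.diag e
    exact h.b1 m (congrFun (mon_inj (mon_mul.symm.trans (v2.trans mon_one.symm))).2)
  rcases h.pat ε p.1 with e | e | ⟨a1, a2, a3, a4, e⟩
  · exact .inl (dg x1 p v2 e)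
  · exact .inr ((eq_inv_of_mul_eq_one_left (dg (mul_mem x1 h.t) (p.mul PE.tt) (by
      rw [mul_assoc, ← mul_assoc _ v, ← x2, mul_assoc v, tt_mul, mul_one, v2]) fun x n => by simp [e x n])).trans tt_inv)
  have m : ∀ b, hh F b⁻¹ * v * (hh F b⁻¹)⁻¹ ∈ H := fun b => mul_mem (mul_mem (h.hm _) x1) (inv_mem (h.hm _))
  have q := ((((PE.tt.mul (p.cj a1)).mul (p.cj a2)).mul (p.cj a3)).mul (p.cj a4))
  have a2 : (a : F) ^ 2 = 1 := congrArg Units.val (h.sc_pow x4 ((_root_.sq v).trans v2))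
  rw [show (1 : F) * a * a * a * a = 1 by linear_combination ((a : F) ^ 2 + 1) * a2] at q
  exact (h.no_swap (mul_mem (mul_mem (mul_mem (mul_mem h.t (m _)) (m _)) (m _)) (m _)) q e).elim

end Hu

end CF.UsC
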