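/-
Systems of reflections with the Gram matrices of the normaliser of `r^{1+2}` in characteristic 3, 5, 7.
-/
import Cfsg.Agent.X7.E2
import Cfsg.Agent.D5.R12

set_option autoImplicit false

namespace CF.UsC

open Matrix CF.X7 CF.D5

variable {F : Type*} [Field F] [Finite F] {ι : Type} [Fintype ι] [DecidableEq ι] {S : Submonoid (Matrix ι ι F)}

theorem tr3 (A : Ax S) (h2 : (2 : F) ≠ 0) {x0 x1 x2 ξ0 ξ1 ξ2 : ι → F} (r0 : Rt S x0 ξ0) (r1 : Rt S x1 ξ1)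
    (r2 : Rt S x2 ξ2) {a b c d e f : F} (ha : ξ0 ⬝ᵥ x1 = a) (hb : ξ0 ⬝ᵥ x2 = b) (hc : ξ1 ⬝ᵥ x0 = c)
    (hd : ξ1 ⬝ᵥ x2 = d) (he : ξ2 ⬝ᵥ x0 = e) (hf : ξ2 ⬝ᵥ x1 = f) (nr : a * d * e - b * f * c ≠ 0)
    (dt : 8 + a * d * e + b * f * c - 2 * (a * c + b * e + d * f) ≠ 0)
    (c1 : a * c * (a * c - 1) * (a * c - 2) ≠ 0) (c2 : b * e * (b * e - 1) * (b * e - 2) ≠ 0)
    (c3 : d * f * (d * f - 1) * (d * f - 2) ≠ 0) :
    (3 : F) ≠ 0 ∧ ∀ y η, Rt S y η → ∀ l0 l1 l2 s : F, 2 * l0 + a * l1 + b * l2 = ξ0 ⬝ᵥ y →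
      c * l0 + 2 * l1 + d * l2 = ξ1 ⬝ᵥ y → e * l0 + f * l1 + 2 * l2 = ξ2 ⬝ᵥ y →
      η ⬝ᵥ x0 * l0 + η ⬝ᵥ x1 * l1 + η ⬝ᵥ x2 * l2 = s → s * (s - 1) * (s - 2) = 0 := by
  have u : ∀ {s t : F}, s * t * (s * t - 1) * (s * t - 2) ≠ 0 → ¬ (s * t = 0 ∨ s * t = 1 ∨ s * t = 2) ∧
      ¬ (t * s = 0 ∨ t * s = 1 ∨ t * s = 2) := fun {s t} h => by
    rw [mul_comm t s, and_self]
    rintro (k | k | k) <;> simp [k] at h
  obtain ⟨h3, k⟩ := three_roots A h2 (x := ![x0, x1, x2]) (ξ := ![ξ0, ξ1, ξ2])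
    ⟨fun i => by fin_cases i; exacts [r0, r1, r2], by
      simpa [ha, hb, hc, hd, he, hf, sub_ne_zero] using nr⟩ (fun k => dt (by
      simp [det_fin_three, ha, hb, hc, hd, he, hf, r0.dot, r1.dot, r2.dot] at k; linear_combination k)) fun i j n => by
      fin_cases i <;> fin_cases j <;> simp only [ne_eq, not_true_eq_false] at n <;>
        simp only [Fin.zero_eta, Fin.mk_one, Fin.reduceFinMk, cons_val, ha, hb, hc, hd, he, hf]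
      exacts [(u c1).1, (u c2).1, (u c1).2, (u c3).1, (u c2).2, (u c3).2]
  refine ⟨h3, fun y η r l0 l1 l2 s e0 e1 e2 es => ?_⟩
  have := k y η r ![l0, l1, l2] fun i => by
    fin_cases i <;> simp [Fin.sum_univ_three, ha, hb, hc, hd, he, hf, r0.dot, r1.dot, r2.dot, e0, e1, e2]
  simp only [Fin.sum_univ_three, cons_val, es] at this
  rcases this with k | k | k <;> simp [k]

theorem nr3 (A : Ax S) {t : F} (hp : (3 : F) = 0) (hM : 1 + t + t ^ 2 + t ^ 3 + t ^ 4 + t ^ 5 + t ^ 6 = 0) {x0 x1 x2 x3 ξ0 ξ1 ξ2 ξ3 : ι → F}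
    (r0 : Rt S x0 ξ0) (r1 : Rt S x1 ξ1) (r2 : Rt S x2 ξ2) (r3 : Rt S x3 ξ3)
    (g01 : ξ0 ⬝ᵥ x1 = 0) (g02 : ξ0 ⬝ᵥ x2 = 2) (g03 : ξ0 ⬝ᵥ x3 = 2) (g10 : ξ1 ⬝ᵥ x0 = 0)
    (g12 : ξ1 ⬝ᵥ x2 = 2) (g13 : ξ1 ⬝ᵥ x3 = 2 * t) (g20 : ξ2 ⬝ᵥ x0 = -1) (g21 : ξ2 ⬝ᵥ x1 = -1)
    (g23 : ξ2 ⬝ᵥ x3 = -1 - 2 * t - 2 * t ^ 2 - 2 * t ^ 4) (g30 : ξ3 ⬝ᵥ x0 = -1) (g31 : ξ3 ⬝ᵥ x1 = -t ^ 6) (g32 : ξ3 ⬝ᵥ x2 = 1 + 2 * t + 2 * t ^ 2 + 2 * t ^ 4) : False := by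
  have h2 : (2 : F) ≠ 0 := (fun k => one_ne_zero (α := F) (by linear_combination (-1) * k + (1) * hp))
  have k := tr3 A h2 r1 (r3.act (r2.act r0)) (r1.act (r3.act r2))
    (a := -1 - t ^ 2 - t ^ 3 - t ^ 5) (b := 1 - t + t ^ 2 + t ^ 3 + t ^ 5) (c := -1 - t ^ 2 - t ^ 4 - t ^ 5) (d := -t ^ 3 + t ^ 4 + t ^ 5) (e := -1 + t - t ^ 2 + t ^ 3 - t ^ 4 - t ^ 5) (f := t ^ 2 + t ^ 3 - t ^ 4)
    (by simp only [dotProduct_sub, sub_dotProduct, dotProduct_smul, smul_dotProduct, smul_eq_mul, r0.dot, r1.dot, r2.dot, r3.dot, g01, g02, g03, g10, g12, g13, g20, g21, g23, g30, g31, g32]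
        linear_combination (1 - t ^ 2 - t ^ 3 - t ^ 5) * hp)
    (by simp only [dotProduct_sub, sub_dotProduct, dotProduct_smul, smul_dotProduct, smul_eq_mul, r0.dot, r1.dot, r2.dot, r3.dot, g01, g02, g03, g10, g12, g13, g20, g21, g23, g30, g31, g32]
        linear_combination (-1 + t + t ^ 2 + t ^ 3 + t ^ 5) * hp)
    (by simp only [dotProduct_sub, sub_dotProduct, dotProduct_smul, smul_dotProduct, smul_eq_mul, r0.dot, r1.dot, r2.dot, r3.dot, g01, g02, g03, g10, g12, g13, g20, g21, g23, g30, g31, g32]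
        linear_combination (4 * t ^ 2 - 4 * t ^ 3 + 4 * t ^ 4) * hM + (1 - t ^ 2 - t ^ 4 - t ^ 5) * hp)
    (by simp only [dotProduct_sub, sub_dotProduct, dotProduct_smul, smul_dotProduct, smul_eq_mul, r0.dot, r1.dot, r2.dot, r3.dot, g01, g02, g03, g10, g12, g13, g20, g21, g23, g30, g31, g32]
        linear_combination (24 - 32 * t - 8 * t ^ 2 + 16 * t ^ 3 - 16 * t ^ 4 + 8 * t ^ 5 + 32 * t ^ 7 - 16 * t ^ 8 + 16 * t ^ 9) * hM + (-10 + 4 * t + 8 * t ^ 2 + 3 * t ^ 3 + 5 * t ^ 4 + 5 * t ^ 5) * hp)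
    (by simp only [dotProduct_sub, sub_dotProduct, dotProduct_smul, smul_dotProduct, smul_eq_mul, r0.dot, r1.dot, r2.dot, r3.dot, g01, g02, g03, g10, g12, g13, g20, g21, g23, g30, g31, g32]
        linear_combination (-1 + 2 * t ^ 2 - 2 * t ^ 3 + 2 * t ^ 4) * hM + (1) * hp)
    (by simp only [dotProduct_sub, sub_dotProduct, dotProduct_smul, smul_dotProduct, smul_eq_mul, r0.dot, r1.dot, r2.dot, r3.dot, g01, g02, g03, g10, g12, g13, g20, g21, g23, g30, g31, g32]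
        linear_combination (-18 + 12 * t + 4 * t ^ 2 + 4 * t ^ 5 - 16 * t ^ 7 + 8 * t ^ 8 - 8 * t ^ 9) * hM + (7 + 2 * t - t ^ 2 - t ^ 3 + t ^ 4 - 2 * t ^ 5) * hp)
    (fun k => one_ne_zero (α := F) (by linear_combination (-1 + t + t ^ 2 + t ^ 3) * k + (-2 + 8 * t - 11 * t ^ 2 + 6 * t ^ 3 - 2 * t ^ 4 + t ^ 6 - 3 * t ^ 7 - t ^ 9 - t ^ 11 - t ^ 12) * hM + (1 - 2 * t + 2 * t ^ 2 - t ^ 3 + t ^ 4) * hp))
    (fun k => one_ne_zero (α := F) (by linear_combination (-1 - t ^ 2 + t ^ 3 + t ^ 4 - t ^ 5) * k + (20 * t - 32 * t ^ 2 + 17 * t ^ 3 - 18 * t ^ 4 + 28 * t ^ 5 - 15 * t ^ 6 - 11 * t ^ 7 + 21 * t ^ 8 - 14 * t ^ 9 + 6 * t ^ 10 + 3 * t ^ 11 - 6 * t ^ 12 + t ^ 13 + t ^ 14) * hM + (3 - 8 * t + 7 * t ^ 2 - 8 * t ^ 3 + 4 * t ^ 4 - 6 * t ^ 5) * hp))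
    (fun k => one_ne_zero (α := F) (by linear_combination (1) * k + (34 - 34 * t + 29 * t ^ 2 - 16 * t ^ 3 + t ^ 4 + 16 * t ^ 5 - 37 * t ^ 6 + 32 * t ^ 7 - 54 * t ^ 8 - 2 * t ^ 9 - 33 * t ^ 10 - 63 * t ^ 11 - 16 * t ^ 12 - 80 * t ^ 13 - 37 * t ^ 14 - 48 * t ^ 15 - 53 * t ^ 16 - 24 * t ^ 17 - 34 * t ^ 18 - 18 * t ^ 19 - 11 * t ^ 20 - 10 * t ^ 21 - 3 * t ^ 22 - 2 * t ^ 23 - t ^ 24) * hM + (-11 - 9 * t ^ 2 - 4 * t ^ 3 - 4 * t ^ 4 - 9 * t ^ 5) * hp))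
    (fun k => one_ne_zero (α := F) (by linear_combination (1 - t ^ 2 - t ^ 3 - t ^ 4 - t ^ 5) * k + (-5 + 76 * t - 104 * t ^ 2 + 79 * t ^ 3 - 20 * t ^ 4 - 77 * t ^ 5 + 131 * t ^ 6 - 82 * t ^ 7 - 37 * t ^ 8 + 175 * t ^ 9 - 278 * t ^ 10 + 247 * t ^ 11 - 141 * t ^ 12 - 45 * t ^ 13 + 195 * t ^ 14 - 258 * t ^ 15 + 179 * t ^ 16 - 66 * t ^ 17 - 80 * t ^ 18 + 95 * t ^ 19 - 88 * t ^ 20 + 19 * t ^ 21 + 9 * t ^ 22 - 28 * t ^ 23 + 4 * t ^ 24 - 11 * t ^ 25 - 10 * t ^ 26 - 3 * t ^ 27 - 3 * t ^ 28 - t ^ 29) * hM + (4 - 31 * t + 28 * t ^ 2 - 44 * t ^ 3 + 31 * t ^ 4 - 25 * t ^ 5) * hp))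
    (fun k => one_ne_zero (α := F) (by linear_combination (-1 + t ^ 3 + t ^ 4) * k + (1 - t + 6 * t ^ 2 + 12 * t ^ 3 - 14 * t ^ 5 - 4 * t ^ 6 + 7 * t ^ 7 - 5 * t ^ 8 + 4 * t ^ 9 + 3 * t ^ 10 + 3 * t ^ 11 + 12 * t ^ 12 - 19 * t ^ 13 - 28 * t ^ 14 + 6 * t ^ 15 + 23 * t ^ 16 + 45 * t ^ 17 - 8 * t ^ 18 - 66 * t ^ 19 + t ^ 20 + 38 * t ^ 21 - 10 * t ^ 23 + t ^ 25) * hM + (-2 * t ^ 2 - 6 * t ^ 3 - 6 * t ^ 4 - 2 * t ^ 5) * hp))
  exact k.1 hp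

theorem nr5 (A : Ax S) {t : F} (hp : (5 : F) = 0) (hM : 7 + t ^ 2 = 0) {x0 x1 x2 x3 ξ0 ξ1 ξ2 ξ3 : ι → F}
    (r0 : Rt S x0 ξ0) (r1 : Rt S x1 ξ1) (r2 : Rt S x2 ξ2) (r3 : Rt S x3 ξ3)
    (g01 : ξ0 ⬝ᵥ x1 = 2) (g02 : ξ0 ⬝ᵥ x2 = 2) (g03 : ξ0 ⬝ᵥ x3 = 2) (g10 : ξ1 ⬝ᵥ x0 = 1)
    (g12 : ξ1 ⬝ᵥ x2 = t) (g13 : ξ1 ⬝ᵥ x3 = t) (g20 : ξ2 ⬝ᵥ x0 = 1) (g21 : ξ2 ⬝ᵥ x1 = -t)
    (g23 : ξ2 ⬝ᵥ x3 = t) (g30 : ξ3 ⬝ᵥ x0 = 1) (g31 : ξ3 ⬝ᵥ x1 = -t) (g32 : ξ3 ⬝ᵥ x2 = -t) : False := by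
  have h2 : (2 : F) ≠ 0 := (fun k => one_ne_zero (α := F) (by linear_combination (-2) * k + (1) * hp))
  have k := tr3 A h2 (r1.act r0) (r3.act (r1.act r2)) (r0.act (r3.act r2))
    (a := -2 * t) (b := 1) (c := t) (d := -1 - t) (e := -2) (f := -1 + t)
    (by simp only [dotProduct_sub, sub_dotProduct, dotProduct_smul, smul_dotProduct, smul_eq_mul, r0.dot, r1.dot, r2.dot, r3.dot, g01, g02, g03, g10, g12, g13, g20, g21, g23, g30, g31, g32]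
        linear_combination (-4 + 2 * t) * hM + (6 - 2 * t) * hp)
    (by simp only [dotProduct_sub, sub_dotProduct, dotProduct_smul, smul_dotProduct, smul_eq_mul, r0.dot, r1.dot, r2.dot, r3.dot, g01, g02, g03, g10, g12, g13, g20, g21, g23, g30, g31, g32]
        linear_combination (-2) * hM + (3) * hp)
    (by simp only [dotProduct_sub, sub_dotProduct, dotProduct_smul, smul_dotProduct, smul_eq_mul, r0.dot, r1.dot, r2.dot, r3.dot, g01, g02, g03, g10, g12, g13, g20, g21, g23, g30, g31, g32]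
        linear_combination (-2 - t) * hM + (3 + t) * hp)
    (by simp only [dotProduct_sub, sub_dotProduct, dotProduct_smul, smul_dotProduct, smul_eq_mul, r0.dot, r1.dot, r2.dot, r3.dot, g01, g02, g03, g10, g12, g13, g20, g21, g23, g30, g31, g32]
        linear_combination (3 + 2 * t) * hM + (-4 - 3 * t) * hp)
    (by simp only [dotProduct_sub, sub_dotProduct, dotProduct_smul, smul_dotProduct, smul_eq_mul, r0.dot, r1.dot, r2.dot, r3.dot, g01, g02, g03, g10, g12, g13, g20, g21, g23, g30, g31, g32]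
        linear_combination (-1) * hM + (2) * hp)
    (by simp only [dotProduct_sub, sub_dotProduct, dotProduct_smul, smul_dotProduct, smul_eq_mul, r0.dot, r1.dot, r2.dot, r3.dot, g01, g02, g03, g10, g12, g13, g20, g21, g23, g30, g31, g32]
        linear_combination (3 - 2 * t) * hM + (-4 + 3 * t) * hp)
    (fun k => one_ne_zero (α := F) (by linear_combination (t) * k + (3 + 5 * t) * hM + (-4 - 7 * t) * hp))
    (fun k => one_ne_zero (α := F) (by linear_combination (-1) * k + (3) * hM + (-2 - t) * hp))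
    (fun k => one_ne_zero (α := F) (by linear_combination (-1) * k + (-312 + 44 * t ^ 2 - 8 * t ^ 4) * hM + (437) * hp))
    (fun k => one_ne_zero (α := F) (by linear_combination (1) * k + (5) * hp))
    (fun k => one_ne_zero (α := F) (by linear_combination (1) * k + (48 - 7 * t ^ 2 + t ^ 4) * hM + (-67) * hp))
  refine absurd (k.2 _ _ r0 (1 - 2 * t) (t) (-1 - t) (-2) ?_ ?_ ?_ ?_)
    (fun k => one_ne_zero (α := F) (by linear_combination (1) * k + (5) * hp)) <;>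
    simp only [dotProduct_sub, sub_dotProduct, dotProduct_smul, smul_dotProduct, smul_eq_mul, r0.dot, r1.dot, r2.dot, r3.dot, g01, g02, g03, g10, g12, g13, g20, g21, g23, g30, g31, g32]
  · linear_combination (-2) * hM + (3 - t) * hp
  · linear_combination (t) * hp
  · linear_combination (1) * hM + (-2) * hp
  · linear_combination (2 - 2 * t) * hM + (-2 + 4 * t) * hp

theorem nr7 (A : Ax S) {t : F} (hp : (7 : F) = 0) (hM : 11 + t ^ 2 = 0) {x0 x1 x2 x3 x4 ξ0 ξ1 ξ2 ξ3 ξ4 : ι → F}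
    (r0 : Rt S x0 ξ0) (r1 : Rt S x1 ξ1) (r2 : Rt S x2 ξ2) (r3 : Rt S x3 ξ3) (r4 : Rt S x4 ξ4)
    (g01 : ξ0 ⬝ᵥ x1 = 2) (g02 : ξ0 ⬝ᵥ x2 = 2) (g03 : ξ0 ⬝ᵥ x3 = 2) (g04 : ξ0 ⬝ᵥ x4 = 2)
    (g10 : ξ1 ⬝ᵥ x0 = -3) (g12 : ξ1 ⬝ᵥ x2 = -3 * t) (g13 : ξ1 ⬝ᵥ x3 = 3 * t) (g14 : ξ1 ⬝ᵥ x4 = -3 * t)
    (g20 : ξ2 ⬝ᵥ x0 = -3) (g21 : ξ2 ⬝ᵥ x1 = 3 * t) (g23 : ξ2 ⬝ᵥ x3 = -3 * t) (g24 : ξ2 ⬝ᵥ x4 = 3 * t)
    (g30 : ξ3 ⬝ᵥ x0 = -3) (g31 : ξ3 ⬝ᵥ x1 = -3 * t) (g32 : ξ3 ⬝ᵥ x2 = 3 * t) (g34 : ξ3 ⬝ᵥ x4 = -3 * t)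
    (g40 : ξ4 ⬝ᵥ x0 = -3) (g41 : ξ4 ⬝ᵥ x1 = 3 * t) (g42 : ξ4 ⬝ᵥ x2 = -3 * t) (g43 : ξ4 ⬝ᵥ x3 = 3 * t) : False := by
  have h2 : (2 : F) ≠ 0 := (fun k => one_ne_zero (α := F) (by linear_combination (-3) * k + (1) * hp))
  have k := tr3 A h2 (r1.act r0) (r4.act r2) (r3.act (r4.act r1))
    (a := -2 * t) (b := -3 + t) (c := -3 * t) (d := 2 + 3 * t) (e := 1 - 2 * t) (f := 2 - 3 * t)
    (by simp only [dotProduct_sub, sub_dotProduct, dotProduct_smul, smul_dotProduct, smul_eq_mul, r0.dot, r1.dot, r2.dot, r3.dot, r4.dot, g01, g02, g03, g04, g10, g12, g13, g14, g20, g21, g23, g24, g30, g31, g32, g34, g40, g41, g42, g43]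
        linear_combination (18) * hM + (-28 + 2 * t) * hp)
    (by simp only [dotProduct_sub, sub_dotProduct, dotProduct_smul, smul_dotProduct, smul_eq_mul, r0.dot, r1.dot, r2.dot, r3.dot, r4.dot, g01, g02, g03, g04, g10, g12, g13, g14, g20, g21, g23, g24, g30, g31, g32, g34, g40, g41, g42, g43]
        linear_combination (-54 + 54 * t) * hM + (85 - 85 * t) * hp)
    (by simp only [dotProduct_sub, sub_dotProduct, dotProduct_smul, smul_dotProduct, smul_eq_mul, r0.dot, r1.dot, r2.dot, r3.dot, r4.dot, g01, g02, g03, g04, g10, g12, g13, g14, g20, g21, g23, g24, g30, g31, g32, g34, g40, g41, g42, g43]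
        linear_combination (-27) * hM + (42 + 3 * t) * hp)
    (by simp only [dotProduct_sub, sub_dotProduct, dotProduct_smul, smul_dotProduct, smul_eq_mul, r0.dot, r1.dot, r2.dot, r3.dot, r4.dot, g01, g02, g03, g04, g10, g12, g13, g14, g20, g21, g23, g24, g30, g31, g32, g34, g40, g41, g42, g43]
        linear_combination (-900 + 81 * t ^ 2) * hM + (1414) * hp)
    (by simp only [dotProduct_sub, sub_dotProduct, dotProduct_smul, smul_dotProduct, smul_eq_mul, r0.dot, r1.dot, r2.dot, r3.dot, r4.dot, g01, g02, g03, g04, g10, g12, g13, g14, g20, g21, g23, g24, g30, g31, g32, g34, g40, g41, g42, g43]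
        linear_combination (81 + 81 * t) * hM + (-127 - 127 * t) * hp)
    (by simp only [dotProduct_sub, sub_dotProduct, dotProduct_smul, smul_dotProduct, smul_eq_mul, r0.dot, r1.dot, r2.dot, r3.dot, r4.dot, g01, g02, g03, g04, g10, g12, g13, g14, g20, g21, g23, g24, g30, g31, g32, g34, g40, g41, g42, g43]
        linear_combination (-900 + 81 * t ^ 2) * hM + (1414) * hp)
    (fun k => one_ne_zero (α := F) (by linear_combination (-2 * t) * k + (-110 + 70 * t + 6 * t ^ 2) * hM + (173 - 110 * t) * hp))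
    (fun k => one_ne_zero (α := F) (by linear_combination (-1) * k + (-21 + 21 * t) * hM + (34 - 33 * t) * hp))
    (fun k => one_ne_zero (α := F) (by linear_combination (-2) * k + (54672 - 4968 * t ^ 2 + 432 * t ^ 4) * hM + (-85913) * hp))
    (fun k => one_ne_zero (α := F) (by linear_combination (2) * k + (-4224 + 490 * t + 508 * t ^ 2 - 168 * t ^ 3 + 16 * t ^ 4) * hM + (6655 - 864 * t) * hp))
    (fun k => one_ne_zero (α := F) (by linear_combination (2) * k + (192924 - 17496 * t ^ 2 + 1458 * t ^ 4) * hM + (-303173) * hp))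
  refine absurd (k.2 _ _ r3 (-2 + 2 * t) (2 + 3 * t) (-2 - t) (-2) ?_ ?_ ?_ ?_)
    (fun k => one_ne_zero (α := F) (by linear_combination (2) * k + (7) * hp)) <;>
    simp only [dotProduct_sub, sub_dotProduct, dotProduct_smul, smul_dotProduct, smul_eq_mul, r0.dot, r1.dot, r2.dot, r3.dot, r4.dot, g01, g02, g03, g04, g10, g12, g13, g14, g20, g21, g23, g24, g30, g31, g32, g34, g40, g41, g42, g43]
  · linear_combination (-7) * hM + (11 + t) * hp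
  · linear_combination (t) * hp
  · linear_combination (-4) * hM + (6 + t) * hp
  · linear_combination (-12 - 18 * t) * hM + (20 + 30 * t) * hp

end CF.UsC
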